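import Groth.Agent.GrpSchLib.HomSplitLocus
import Groth.Agent.FpqcDescLib.Closed
import Mathlib.AlgebraicGeometry.Morphisms.Affine

/-!
# Free actions of diagonalisable groups on affine schemes have closed graph
-/

set_option autoImplicit false
set_option linter.style.haveILetI false
set_option linter.unusedSectionVars false
set_option backward.isDefEq.respectTransparency false
set_option maxHeartbeats 1600000

universe u

open CategoryTheory CategoryTheory.Limits MonoidalCategory CartesianMonoidalCategory MonObj AlgebraicGeometry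

namespace Groth.Agent.FreeDiag

open GrpSchLib GrpSchLib.DiagActionRigid GrpSchLib.SubgroupFactor DSPtsLib
open GrpSchLib.HomSplitLocal (baseMap)

section Charts

variable {S S' : Scheme.{u}} {H Q : Over S}

/-- A property of morphisms over a base may be checked on affine charts of a covering. -/
theorem of_charts (P : MorphismProperty Scheme.{u}) [P.IsStableUnderBaseChange] [IsZariskiLocalAtTarget P]
    [P.DescendsAlong (@Surjective ⊓ @Flat ⊓ @QuasiCompact)] (u : H ⟶ Q) {f : S' ⟶ S} (hf : FpqcDescLib.Covers f)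
    (h : ∀ z : S', ∃ (R : CommRingCat.{u}) (j : Spec R ⟶ S'), IsOpenImmersion j ∧ z ∈ Set.range j ∧
      P ((Over.pullback (j ≫ f)).map u).left) : P u.left := by
  refine (hf.pullback Q.hom _ _ (IsPullback.of_hasPullback Q.hom f)).descends P u.left ((Over.pullback f).map u).left
    (pullback.fst H.hom f) (HomSplitLocal.isPullback_map u f).flip ?_
  choose R j hj hz hP using h
  haveI := hj
  let 𝒰 : S'.OpenCover := Scheme.Cover.mkOfCovers _ _ j (fun z => ⟨z, hz z⟩)
  refine IsZariskiLocalAtTarget.of_openCover (P := P) (𝒰.pullback₁ (pullback.snd Q.hom f)) fun i => ?_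
  let k : pullback (pullback.snd Q.hom f) (𝒰.f i) ⟶ pullback Q.hom (j i ≫ f) :=
    pullback.lift (pullback.fst _ _ ≫ pullback.fst Q.hom f) (pullback.snd _ _)
      (by
        rw [Category.assoc, pullback.condition, pullback.condition_assoc]
        rfl)
  have hk : k ≫ baseMap Q (j i) f = pullback.fst (pullback.snd Q.hom f) (𝒰.f i) := by
    refine pullback.hom_ext ?_ ?_
    · rw [Category.assoc, show baseMap Q (j i) f ≫ pullback.fst Q.hom f = pullback.fst Q.hom (j i ≫ f) from
        pullback.lift_fst _ _ _]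
      exact pullback.lift_fst _ _ _
    · rw [Category.assoc, show baseMap Q (j i) f ≫ pullback.snd Q.hom f = pullback.snd Q.hom (j i ≫ f) ≫ j i from
        pullback.lift_snd _ _ _, ← Category.assoc, pullback.condition]
      exact congrArg (· ≫ j i) (pullback.lift_snd _ _ _)
  have hs := IsPullback.of_hasPullback ((Over.pullback f).map u).left (k ≫ baseMap Q (j i) f)
  have h2 := MorphismProperty.of_isPullback (P := P)
    (IsPullback.of_right' hs (HomSplitLocal.isPullback_comp u (j i) f)) (hP i)
  rw [hk] at h2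
  exact h2

end Charts

variable {S : Scheme.{u}} {R : Type u} [CommRing R] (β : Spec (CommRingCat.of R) ⟶ S)

/-- The coordinate ring of the base change of an affine scheme, with its universal point. -/
theorem exists_coordRing (X : Over S) [IsAffineHom X.hom] :
    ∃ (A : Type u) (_ : CommRing A) (_ : Algebra R A) (xA : sp β A ⟶ X),
      ∀ (T : Type u) [CommRing T] [Algebra R T] (v : sp β T ⟶ X), ∃! f : A →ₐ[R] T, spm β f ≫ xA = v := by
  haveI : IsAffineHom (pullback.snd X.hom β) := MorphismProperty.pullback_snd (P := @IsAffineHom) _ _ inferInstance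
  haveI : IsAffine (pullback X.hom β) := isAffine_of_isAffineHom (pullback.snd X.hom β)
  let P := pullback X.hom β
  let ρ : CommRingCat.of R ⟶ Γ(P, ⊤) := Spec.preimage (P.isoSpec.inv ≫ pullback.snd X.hom β)
  have hρ : Spec.map ρ = P.isoSpec.inv ≫ pullback.snd X.hom β := Spec.map_preimage _
  let D : Type u := Γ(P, ⊤)
  letI : Algebra R D := ρ.hom.toAlgebra
  let a : sp β D ⟶ X := Over.homMk (P.isoSpec.inv ≫ pullback.fst X.hom β) (by
    show (P.isoSpec.inv ≫ pullback.fst X.hom β) ≫ X.hom = Spec.map ρ ≫ β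
    rw [hρ, Category.assoc, Category.assoc, pullback.condition])
  refine ⟨D, inferInstance, inferInstance, a, fun T _ _ v => ?_⟩
  let y : Spec (CommRingCat.of T) ⟶ P :=
    pullback.lift v.left (Spec.map (CommRingCat.ofHom (algebraMap R T))) (Over.w v)
  let q := Spec.preimage (y ≫ P.isoSpec.hom)
  have hq : Spec.map q = y ≫ P.isoSpec.hom := Spec.map_preimage _
  have h1 : ρ ≫ q = CommRingCat.ofHom (algebraMap R T) := by
    apply Spec.map_injective
    rw [Spec.map_comp, hρ, hq, Category.assoc, Iso.hom_inv_id_assoc, pullback.lift_snd]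
  have hcomm : ∀ r : R, q.hom (ρ.hom r) = algebraMap R T r := fun r =>
    congrArg (fun m : CommRingCat.of R ⟶ CommRingCat.of T => m.hom r) h1
  refine ⟨{ q.hom with commutes' := hcomm }, Over.OverMorphism.ext ?_, fun f' hf' => ?_⟩
  · show Spec.map q ≫ P.isoSpec.inv ≫ pullback.fst X.hom β = v.left
    rw [hq, Category.assoc, Iso.hom_inv_id_assoc, pullback.lift_fst]
  · refine AlgHom.coe_ringHom_injective ?_
    have hsnd : (Spec.map (CommRingCat.ofHom f'.toRingHom) ≫ P.isoSpec.inv) ≫ pullback.snd X.hom β =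
        Spec.map (CommRingCat.ofHom (algebraMap R T)) := by
      rw [Category.assoc, ← hρ, ← Spec.map_comp]
      congr 1
      exact CommRingCat.hom_ext f'.comp_algebraMap
    have e : Spec.map (CommRingCat.ofHom f'.toRingHom) = Spec.map q := by
      rw [hq, ← Iso.comp_inv_eq]
      refine pullback.hom_ext ?_ ?_
      · rw [Category.assoc, pullback.lift_fst]
        exact congrArg CommaMorphism.left hf'
      · rw [hsnd, pullback.lift_snd]
    exact congrArg CommRingCat.Hom.hom (Spec.map_injective e)

section Grading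

variable {A : Type u} [CommRing A] {M : Type} [AddCommGroup M]
  (ρ : A →+* MonoidAlgebra A (Multiplicative M))

/-- A group of homogeneous elements whose degrees make up the whole group generates the unit ideal in each degree. -/
theorem span_homog_eq_top
    (hcount : ∀ a, MonoidAlgebra.lift A A (Multiplicative M) 1 (ρ a) = a)
    (hhom : ∀ a k, ρ ((ρ a).coeff k) = MonoidAlgebra.single k ((ρ a).coeff k))
    (htest : ∀ (q : Ideal A) [q.IsMaximal] (N : Subgroup (Multiplicative M)),
      (∀ k a, ρ a = MonoidAlgebra.single k a → a ∉ q → k ∈ N) → N = ⊤)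
    (m : Multiplicative M) : Ideal.span {a | ρ a = MonoidAlgebra.single m a} = ⊤ := by
  classical
  by_contra hm
  let hom : Set A := {a | ∃ k, ρ a = MonoidAlgebra.single k a}
  let 𝒮 : Set (Ideal A) := {I | I ≠ ⊤ ∧ Ideal.span (hom ∩ I) = I}
  have hI₀ : Ideal.span {a | ρ a = MonoidAlgebra.single m a} ∈ 𝒮 :=
    ⟨hm, le_antisymm (Ideal.span_le.mpr fun a ha => ha.2)
      (Ideal.span_le.mpr fun a ha => Ideal.subset_span ⟨⟨m, ha⟩, Ideal.subset_span ha⟩)⟩
  obtain ⟨q, hq₀, hq⟩ := zorn_le_nonempty₀ 𝒮 (fun c hc hch I hI => by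
    refine ⟨sSup c, ⟨?_, ?_⟩, fun J hJ => le_sSup hJ⟩
    · rw [Ne, Ideal.eq_top_iff_one, Submodule.mem_sSup_of_directed ⟨I, hI⟩ hch.directedOn]
      rintro ⟨J, hJ, h1⟩
      exact (hc hJ).1 ((Ideal.eq_top_iff_one J).mpr h1)
    · refine le_antisymm (Ideal.span_le.mpr fun a ha => ha.2) (sSup_le fun J hJ => ?_)
      rw [← (hc hJ).2]
      exact Ideal.span_mono (Set.inter_subset_inter_right _ fun a ha => le_sSup hJ ha)) _ hI₀
  have hunit : ∀ a ∈ hom, a ∉ q → ∃ c, 1 - c * a ∈ q := by
    intro a ha haq
    by_contra hc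
    simp only [not_exists] at hc
    have hlt : q < q ⊔ Ideal.span {a} := left_lt_sup.mpr fun h => haq (h (Ideal.subset_span rfl))
    refine hlt.not_ge (hq.2 ⟨?_, ?_⟩ hlt.le)
    · rw [Ne, Ideal.eq_top_iff_one]
      intro h
      obtain ⟨y, hy, z, hz, hyz⟩ := Submodule.mem_sup.mp h
      obtain ⟨c, rfl⟩ := Ideal.mem_span_singleton'.mp hz
      exact hc c (by rw [← hyz, add_sub_cancel_right]; exact hy)
    · refine le_antisymm (Ideal.span_le.mpr fun x hx => hx.2) (sup_le ?_ ?_)
      · exact hq.1.2.symm.le.trans (Ideal.span_mono fun x hx => ⟨hx.1, Ideal.mem_sup_left hx.2⟩)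
      · exact Ideal.span_mono (Set.singleton_subset_iff.mpr ⟨ha, Ideal.mem_sup_right (Ideal.subset_span rfl)⟩)
  have hcoeff : ∀ x ∈ q, ∀ k, (ρ x).coeff k ∈ q := by
    intro x hx
    rw [← hq.1.2] at hx
    refine Submodule.span_induction (p := fun x _ => ∀ k, (ρ x).coeff k ∈ q) ?_ ?_ ?_ ?_ hx
    · rintro y ⟨⟨l, hl⟩, hy⟩ k
      rw [hl, MonoidAlgebra.coeff_single, Finsupp.single_apply]
      split_ifs
      exacts [hy, zero_mem _]
    · intro k; simp
    · intro y z _ _ hy hz k
      rw [map_add, MonoidAlgebra.coeff_add, Finsupp.add_apply]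
      exact add_mem (hy k) (hz k)
    · intro c y _ hy k
      rw [smul_eq_mul, map_mul, MonoidAlgebra.coeff_mul]
      refine sum_mem fun i _ => sum_mem fun j _ => ?_
      show (if i * j = k then _ else 0) ∈ q
      split_ifs
      exacts [Ideal.mul_mem_left _ _ (hy j), zero_mem _]
  let N : Subgroup (Multiplicative M) :=
  { carrier := {k | ∃ a, ρ a = MonoidAlgebra.single k a ∧ a ∉ q}
    one_mem' := ⟨1, by rw [map_one, MonoidAlgebra.one_def], fun h => hq.1.1 ((Ideal.eq_top_iff_one q).mpr h)⟩
    mul_mem' := by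
      rintro k l ⟨a, ha, haq⟩ ⟨b, hb, hbq⟩
      refine ⟨a * b, by rw [map_mul, ha, hb, MonoidAlgebra.single_mul_single], fun hab => hbq ?_⟩
      obtain ⟨c, hc⟩ := hunit a ⟨k, ha⟩ haq
      have : b = (1 - c * a) * b + c * (a * b) := by ring
      rw [this]
      exact add_mem (Ideal.mul_mem_right _ _ hc) (Ideal.mul_mem_left _ _ hab)
    inv_mem' := by
      rintro k ⟨a, ha, haq⟩
      obtain ⟨c, hc⟩ := hunit a ⟨k, ha⟩ haq
      refine ⟨(ρ c).coeff k⁻¹, hhom c _, fun h => hq.1.1 ((Ideal.eq_top_iff_one q).mpr ?_)⟩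
      have h1 := hcoeff _ hc 1
      rw [RingHom.map_sub ρ, RingHom.map_one ρ, RingHom.map_mul ρ, ha, MonoidAlgebra.coeff_sub, Finsupp.sub_apply,
        MonoidAlgebra.one_def, MonoidAlgebra.coeff_single, Finsupp.single_eq_same] at h1
      have h2 : (ρ c * MonoidAlgebra.single k a).coeff 1 = (ρ c).coeff k⁻¹ * a := by
        have := MonoidAlgebra.coeff_mul_single_mul (ρ c) a k k⁻¹
        rwa [inv_mul_cancel] at this
      rw [h2] at h1
      simpa using add_mem h1 (Ideal.mul_mem_right a _ h) }
  obtain ⟨p, hp, hqp⟩ := Ideal.exists_le_maximal q hq.1.1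
  have hN := htest p N fun k a ha hap => ⟨a, ha, fun h => hap (hqp h)⟩
  obtain ⟨a, ha, haq⟩ : m ∈ N := hN ▸ Subgroup.mem_top m
  exact haq (hq₀ (Ideal.subset_span ha))

end Grading

variable {G X : Over S} [GrpObj G] [IsAffineHom X.hom] (a : AlgGrp.Action G X) {M : Type} [AddCommGroup M]
  (χ : ∀ (T : Type u) [CommRing T] [Algebra R T], (CoordM.{u} M →+* T) → (sp β T ⟶ G))
  (hnat : ∀ {T₁ T₂ : Type u} [CommRing T₁] [Algebra R T₁] [CommRing T₂] [Algebra R T₂] (φ : T₁ →ₐ[R] T₂)
      (c : CoordM.{u} M →+* T₁), spm β φ ≫ χ T₁ c = χ T₂ (φ.toRingHom.comp c))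
  (hmul : ∀ {T₁ : Type u} [CommRing T₁] [Algebra R T₁] (c c' d : CoordM.{u} M →+* T₁),
      (∀ m, d (MonoidAlgebra.single m 1) = c (MonoidAlgebra.single m 1) * c' (MonoidAlgebra.single m 1)) →
        χ T₁ c * χ T₁ c' = χ T₁ d)
  (hbij : ∀ (T₁ : Type u) [CommRing T₁] [Algebra R T₁], Function.Bijective (χ T₁))

include hnat hmul hbij in
/-- The graph of a free action of a split diagonalisable group on an affine scheme is a closed immersion. -/
theorem piece (hfree : ∀ (Y : Over S) (g : Y ⟶ G) (x : Y ⟶ X), lift g x ≫ a.act = x → g = 1) :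
    IsClosedImmersion ((Over.pullback β).map (lift a.act (snd G X))).left := by
  classical
  obtain ⟨A, _, _, xA, huniv⟩ := exists_coordRing β X
  let C1 := MonoidAlgebra A (Multiplicative M)
  let C2 := MonoidAlgebra A (Multiplicative M × Multiplicative M)
  let inc : A →ₐ[R] C1 := IsScalarTower.toAlgHom R A C1
  let gU : CoordM.{u} M →+* C1 := univPt A (AddMonoidHom.id M)
  let y : sp β C1 ⟶ X := lift (χ C1 gU) (spm β inc ≫ xA) ≫ a.act
  obtain ⟨ρ, hρ, -⟩ := huniv C1 y
  have hev : ∀ {B : Type u} [CommRing B] [Algebra R B] (h : C1 →ₐ[R] B),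
      spm β (h.comp ρ) ≫ xA = lift (χ B (h.toRingHom.comp gU)) (spm β (h.comp inc) ≫ xA) ≫ a.act := by
    intro B _ _ h
    rw [← spm_comp, Category.assoc, hρ]
    show spm β h ≫ lift _ _ ≫ a.act = _
    rw [comp_lift_assoc, hnat, ← Category.assoc, spm_comp]
  -- homomorphisms out of the coordinate ring of the source
  have hout : ∀ {B : Type u} [CommRing B] [Algebra R B] (f : A →ₐ[R] B) (w : Multiplicative M →* B),
      ∃ h : C1 →ₐ[R] B, h.comp inc = f ∧ ∀ k b, h (MonoidAlgebra.single k b) = f b * w k := by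
    intro B _ _ f w
    letI : Algebra A B := f.toRingHom.toAlgebra
    haveI : IsScalarTower R A B := IsScalarTower.of_algebraMap_eq fun r => (f.commutes r).symm
    let h₀ : C1 →ₐ[A] B := MonoidAlgebra.lift A B (Multiplicative M) w
    refine ⟨h₀.restrictScalars R, AlgHom.ext fun b => ?_, fun k b => ?_⟩
    · show h₀ (algebraMap A C1 b) = f b
      rw [AlgHom.commutes]
      rfl
    · show h₀ _ = _
      rw [MonoidAlgebra.lift_single, Algebra.smul_def]
      rfl
  have hgU : ∀ k, gU (MonoidAlgebra.single k 1) = MonoidAlgebra.single k 1 := fun k => by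
    rw [show gU = univPt A (AddMonoidHom.id M) from rfl, univPt_single]
    rfl
  -- the unit
  have hcount : ∀ b, MonoidAlgebra.lift A A (Multiplicative M) 1 (ρ b) = b := by
    let ε : C1 →ₐ[R] A := (MonoidAlgebra.lift A A (Multiplicative M) 1).restrictScalars R
    have h1 : χ A (ε.toRingHom.comp gU) = 1 := HomSplitLocus.chi_one hmul _ fun k => by
      show ε (gU _) = 1
      rw [hgU]
      show MonoidAlgebra.lift A A (Multiplicative M) 1 _ = 1
      rw [MonoidAlgebra.lift_single, one_smul]
      rfl
    have h2 : ε.comp inc = AlgHom.id R A := AlgHom.ext fun b => by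
      show MonoidAlgebra.lift A A (Multiplicative M) 1 (algebraMap A C1 b) = b
      rw [AlgHom.commutes]
      rfl
    have h3 := hev ε
    rw [h1, h2, spm_id, Category.id_comp] at h3
    have h4 : lift (1 : sp β A ⟶ G) xA ≫ a.act = xA := by
      rw [Hom.one_def, ← lift_whiskerRight_assoc, a.one_act, lift_leftUnitor_hom]
    rw [h4] at h3
    exact fun b => AlgHom.congr_fun ((huniv A xA).unique h3
      (show spm β (AlgHom.id R A) ≫ xA = xA by rw [spm_id, Category.id_comp])) b
  -- associativity
  let σ : (Multiplicative M →* Multiplicative M × Multiplicative M) → (C1 →ₐ[R] C2) := fun τ =>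
    (MonoidAlgebra.mapDomainAlgHom A A τ).restrictScalars R
  let τ₁ := MonoidHom.inl (Multiplicative M) (Multiplicative M)
  let τ₂ := MonoidHom.inr (Multiplicative M) (Multiplicative M)
  let τ₃ := (MonoidHom.id (Multiplicative M)).prod (MonoidHom.id (Multiplicative M))
  obtain ⟨ψ, hψ, hψs⟩ := hout ((σ τ₂).comp ρ) ((MonoidAlgebra.of A _).comp τ₁)
  have hσs : ∀ τ k b, σ τ (MonoidAlgebra.single k b) = MonoidAlgebra.single (τ k) b := fun τ k b =>
    MonoidAlgebra.mapDomain_single
  have hσi : ∀ τ, (σ τ).comp inc = IsScalarTower.toAlgHom R A C2 := fun τ => AlgHom.ext fun b =>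
    AlgHom.commutes (MonoidAlgebra.mapDomainAlgHom A A τ) b
  have hassoc : ψ.comp ρ = (σ τ₃).comp ρ := by
    refine (huniv C2 _).unique rfl ?_
    rw [hev ψ, hψ, hev (σ τ₂), ← act_mul, hσi, hev (σ τ₃), hσi]
    refine congrArg (fun g => lift g _ ≫ a.act) (hmul _ _ _ fun k => ?_).symm
    show σ τ₃ (gU _) = ψ (gU _) * σ τ₂ (gU _)
    rw [hgU, hψs, hσs, hσs, map_one, _root_.one_mul]
    show _ = MonoidAlgebra.single (τ₁ k) 1 * _
    rw [MonoidAlgebra.single_mul_single, _root_.mul_one]
    congr 1
    simp [τ₁, τ₂, τ₃]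
  have hkey : ∀ (y : C1) (i k l : Multiplicative M),
      (σ τ₂ y * (MonoidAlgebra.single (τ₁ i) 1 : C2) : C2).coeff (k, l) = if i = k then y.coeff l else 0 := by
    intro y i k l
    induction y using MonoidAlgebra.induction_linear with
    | zero => simp
    | add x y hx hy =>
      rw [map_add, add_mul, MonoidAlgebra.coeff_add, Finsupp.add_apply, hx, hy, MonoidAlgebra.coeff_add,
        Finsupp.add_apply]
      split_ifs <;> simp
    | single j e =>
      rw [hσs, MonoidAlgebra.single_mul_single, _root_.mul_one, MonoidAlgebra.coeff_single, MonoidAlgebra.coeff_single,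
        Finsupp.single_apply, Finsupp.single_apply, show τ₂ j * τ₁ i = (i, j) by simp [τ₁, τ₂]]
      by_cases h1 : i = k <;> by_cases h2 : j = l <;> simp_all
  have hhom : ∀ b k, ρ ((ρ b).coeff k) = MonoidAlgebra.single k ((ρ b).coeff k) := by
    intro b k
    have hL : ∀ x : C1, ∀ l, (ψ x : C2).coeff (k, l) = (ρ (x.coeff k) : C1).coeff l := by
      intro x l
      induction x using MonoidAlgebra.induction_linear with
      | zero => simp
      | add x y hx hy =>
        rw [map_add, MonoidAlgebra.coeff_add, Finsupp.add_apply, hx, hy, MonoidAlgebra.coeff_add, Finsupp.add_apply,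
          map_add, MonoidAlgebra.coeff_add, Finsupp.add_apply]
      | single i c =>
        rw [hψs]
        show (σ τ₂ (ρ c) * (MonoidAlgebra.single (τ₁ i) 1 : C2) : C2).coeff (k, l) = _
        rw [hkey, MonoidAlgebra.coeff_single, Finsupp.single_apply]
        split_ifs <;> simp
    refine MonoidAlgebra.ext (Finsupp.ext fun l => ?_)
    rw [← hL (ρ b) l, show ψ (ρ b) = σ τ₃ (ρ b) from AlgHom.congr_fun hassoc b, MonoidAlgebra.coeff_single,
      Finsupp.single_apply]
    generalize ρ b = x
    induction x using MonoidAlgebra.induction_linear with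
    | zero => simp
    | add x y hx hy =>
      rw [map_add]
      show (show C2 from σ τ₃ x).coeff (k, l) + (show C2 from σ τ₃ y).coeff (k, l) = _
      rw [hx, hy, MonoidAlgebra.coeff_add, Finsupp.add_apply]
      split_ifs <;> simp
    | single i c =>
      rw [hσs, MonoidAlgebra.coeff_single, MonoidAlgebra.coeff_single, Finsupp.single_apply, Finsupp.single_apply]
      show (if (i, i) = (k, l) then c else 0) = _
      by_cases h1 : i = k <;> by_cases h2 : k = l <;> simp_all
  -- freeness
  have hspan : ∀ m, Ideal.span {b | ρ b = MonoidAlgebra.single m b} = ⊤ := by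
    refine span_homog_eq_top ρ.toRingHom hcount hhom fun q hq N hN => ?_
    let κ := A ⧸ q
    let B := MonoidAlgebra κ (Multiplicative M ⧸ N)
    let f : A →ₐ[R] B := (IsScalarTower.toAlgHom R κ B).comp (Ideal.Quotient.mkₐ R q)
    let w : Multiplicative M →* B := (MonoidAlgebra.of κ _).comp (QuotientGroup.mk' N)
    obtain ⟨h, hh, hhs⟩ := hout f w
    have e : h.comp ρ = f := by
      refine AlgHom.ext fun b => ?_
      have hb : ∀ k, ρ ((ρ b).coeff k) = MonoidAlgebra.single k ((ρ b).coeff k) := hhom b
      conv_rhs => rw [← hcount b]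
      show h (ρ b) = _
      have hterm : ∀ k, h (MonoidAlgebra.single k ((ρ b).coeff k)) =
          f (MonoidAlgebra.lift A A (Multiplicative M) 1 (MonoidAlgebra.single k ((ρ b).coeff k))) := by
        intro k
        rw [hhs, MonoidAlgebra.lift_single, MonoidHom.one_apply, smul_eq_mul, _root_.mul_one]
        by_cases hc : (ρ b).coeff k ∈ q
        · rw [show f ((ρ b).coeff k) = 0 from by
            show algebraMap κ B (Ideal.Quotient.mk q _) = 0
            rw [Ideal.Quotient.eq_zero_iff_mem.mpr hc, map_zero], MulZeroClass.zero_mul]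
        · rw [show w k = 1 from by
            show MonoidAlgebra.single (QuotientGroup.mk k : Multiplicative M ⧸ N) (1 : κ) = 1
            rw [(QuotientGroup.eq_one_iff k).mpr (hN k _ (hhom b k) hc), MonoidAlgebra.one_def], _root_.mul_one]
      conv_lhs => rw [← MonoidAlgebra.sum_coeff_single (ρ b)]
      conv_rhs => rw [← MonoidAlgebra.sum_coeff_single (ρ b)]
      simp only [Finsupp.sum, map_sum]
      exact Finset.sum_congr rfl fun k _ => hterm k
    have h1 := hev h
    rw [e, hh] at h1
    have h2 := hfree _ _ _ h1.symm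
    refine Subgroup.eq_top_iff' N |>.mpr fun k => ?_
    have h3 := HomSplitLocus.eq_one_of_chi hmul hbij h2 k
    change h (gU (MonoidAlgebra.single k 1)) = 1 at h3
    rw [hgU, hhs, map_one, _root_.one_mul] at h3
    haveI : Nontrivial κ := Ideal.Quotient.nontrivial_iff.mpr hq.ne_top
    exact (QuotientGroup.eq_one_iff k).mp (MonoidAlgebra.of_injective (R := κ) (h3.trans (map_one _).symm))
  -- the source of the graph
  let z : sp β C1 ⟶ G ⊗ X := lift (χ C1 gU) (spm β inc ≫ xA)
  let U : Spec (CommRingCat.of C1) ⟶ pullback (G ⊗ X).hom β :=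
    pullback.lift z.left (Spec.map (CommRingCat.ofHom (algebraMap R C1))) (Over.w z)
  haveI : IsIso U := by
    refine HomSplitLocal.isIso_of_affine_points _ fun B v => ?_
    obtain ⟨τ, hτ⟩ : ∃ τ, Spec.map τ = v ≫ pullback.snd (G ⊗ X).hom β := ⟨_, Spec.map_preimage _⟩
    letI : Algebra R B := τ.hom.toAlgebra
    let pB : sp β B ⟶ G ⊗ X := Over.homMk (v ≫ pullback.fst (G ⊗ X).hom β) (by
      show (v ≫ _) ≫ (G ⊗ X).hom = Spec.map τ ≫ β
      rw [hτ, Category.assoc, Category.assoc, pullback.condition])
    obtain ⟨c, hc⟩ := (hbij B).2 (pB ≫ fst G X)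
    obtain ⟨f, hf, hfu⟩ := huniv B (pB ≫ snd G X)
    obtain ⟨h, hh, hhs⟩ := hout f ((c : CoordM.{u} M →* B).comp (MonoidAlgebra.of (ULift.{u} ℤ) _))
    have hhg : h.toRingHom.comp gU = c := coord_ext fun k => by
      show h (gU _) = _
      rw [hgU, hhs, map_one, _root_.one_mul]
      rfl
    have hz : ∀ h' : C1 →ₐ[R] B, spm β h' ≫ z = lift (χ B (h'.toRingHom.comp gU)) (spm β (h'.comp inc) ≫ xA) :=
      fun h' => by
        show spm β h' ≫ lift _ _ = _
        rw [comp_lift, hnat, ← Category.assoc, spm_comp]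
    have hpt : spm β h ≫ z = pB := by
      rw [hz, hhg, hh, hc, hf]
      exact CartesianMonoidalCategory.hom_ext _ _ (by simp) (by simp)
    refine ⟨Spec.map (CommRingCat.ofHom h.toRingHom), ?_, fun x hx => ?_⟩
    · refine pullback.hom_ext ?_ ?_
      · rw [Category.assoc, pullback.lift_fst]
        exact congrArg CommaMorphism.left hpt
      · rw [Category.assoc, pullback.lift_snd, ← hτ, ← Spec.map_comp]
        congr 1
        exact CommRingCat.hom_ext h.comp_algebraMap
    · obtain ⟨π, rfl⟩ : ∃ π, Spec.map π = x := ⟨_, Spec.map_preimage x⟩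
      have h2 := congrArg (· ≫ pullback.snd (G ⊗ X).hom β) hx
      simp only [Category.assoc, U, pullback.lift_snd, ← hτ, ← Spec.map_comp] at h2
      let h' : C1 →ₐ[R] B := { π.hom with commutes' := fun r => congr($(Spec.map_injective h2) r) }
      have h1 := congrArg (· ≫ pullback.fst (G ⊗ X).hom β) hx
      simp only [Category.assoc, U, pullback.lift_fst] at h1
      have h3 : spm β h' ≫ z = pB := Over.OverMorphism.ext h1
      rw [hz] at h3
      have hg' : h'.toRingHom.comp gU = c := (hbij B).1 (by rw [hc, ← h3, lift_fst])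
      have hi' : h'.comp inc = f := hfu _ (by show _ = pB ≫ snd G X; rw [← h3, lift_snd])
      have : h' = h := by
        refine AlgHom.ext fun x => ?_
        induction x using MonoidAlgebra.induction_linear with
        | zero => simp
        | add x y hx hy => simp [hx, hy]
        | single k b =>
          have e : (MonoidAlgebra.single k b : C1) = inc b * gU (MonoidAlgebra.single k 1) := by
            rw [hgU]
            show _ = algebraMap A C1 b * _
            rw [MonoidAlgebra.coe_algebraMap]
            show _ = MonoidAlgebra.single 1 b * MonoidAlgebra.single k 1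
            rw [MonoidAlgebra.single_mul_single, _root_.one_mul, _root_.mul_one]
          rw [e, map_mul, map_mul, show h' (inc b) = h (inc b) from AlgHom.congr_fun (hi'.trans hh.symm) b]
          exact congrArg (h (inc b) * ·) (RingHom.congr_fun (hg'.trans hhg.symm) _)
      rw [← this]
      rfl
  -- the target
  haveI : IsAffineHom (X ⊗ X).hom := by
    haveI : IsAffineHom (pullback.snd X.hom X.hom) :=
      MorphismProperty.pullback_snd (P := @IsAffineHom) _ _ inferInstance
    rw [← Over.w (snd X X)]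
    exact inferInstanceAs (IsAffineHom (pullback.snd X.hom X.hom ≫ X.hom))
  haveI : IsAffineHom (pullback.snd (X ⊗ X).hom β) := MorphismProperty.pullback_snd (P := @IsAffineHom) _ _ inferInstance
  haveI : IsAffine (pullback (X ⊗ X).hom β) := isAffine_of_isAffineHom (pullback.snd (X ⊗ X).hom β)
  let P := pullback (X ⊗ X).hom β
  let Ψ := ((Over.pullback β).map (lift a.act (snd G X))).left
  let φ := Spec.preimage (U ≫ Ψ ≫ P.isoSpec.hom)
  have hφ : Spec.map φ = U ≫ Ψ ≫ P.isoSpec.hom := Spec.map_preimage _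
  suffices hs : Function.Surjective φ.hom by
    have := IsClosedImmersion.spec_of_surjective φ hs
    rw [hφ, MorphismProperty.cancel_left_of_respectsIso @IsClosedImmersion,
      MorphismProperty.cancel_right_of_respectsIso @IsClosedImmersion] at this
    exact this
  let iR : R →+* Γ(P, ⊤) := (Spec.preimage (P.isoSpec.inv ≫ pullback.snd (X ⊗ X).hom β)).hom
  letI : Algebra R Γ(P, ⊤) := iR.toAlgebra
  have hproj : ∀ (π : X ⊗ X ⟶ X) (g : A →ₐ[R] C1), z ≫ lift a.act (snd G X) ≫ π = spm β g ≫ xA →
      ∀ b, g b ∈ φ.hom.range := by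
    intro π g hg b
    let pP : sp β Γ(P, ⊤) ⟶ X ⊗ X := Over.homMk (P.isoSpec.inv ≫ pullback.fst (X ⊗ X).hom β) (by
      show (P.isoSpec.inv ≫ _) ≫ (X ⊗ X).hom = Spec.map (Spec.preimage _) ≫ β
      rw [Spec.map_preimage, Category.assoc, Category.assoc, pullback.condition])
    obtain ⟨e, he, -⟩ := huniv Γ(P, ⊤) (pP ≫ π)
    have hcomm : ∀ r, φ.hom (iR r) = algebraMap R C1 r := fun r => by
      have : Spec.preimage (P.isoSpec.inv ≫ pullback.snd (X ⊗ X).hom β) ≫ φ = CommRingCat.ofHom (algebraMap R C1) := by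
        apply Spec.map_injective
        rw [Spec.map_comp, Spec.map_preimage, Spec.map_preimage, Category.assoc, Category.assoc, Iso.hom_inv_id_assoc,
          show Ψ ≫ pullback.snd (X ⊗ X).hom β = pullback.snd (G ⊗ X).hom β from HomSplitLocal.map_snd _ _,
          pullback.lift_snd]
      exact congr($this r)
    let φa : Γ(P, ⊤) →ₐ[R] C1 := { φ.hom with commutes' := hcomm }
    have hzz : spm β φa ≫ pP = z ≫ lift a.act (snd G X) := Over.OverMorphism.ext (by
      show Spec.map φ ≫ P.isoSpec.inv ≫ pullback.fst (X ⊗ X).hom β = _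
      rw [hφ, Category.assoc, Category.assoc, Iso.hom_inv_id_assoc,
        show Ψ ≫ pullback.fst (X ⊗ X).hom β = pullback.fst (G ⊗ X).hom β ≫ (lift a.act (snd G X)).left from
          HomSplitLocal.map_fst _ _, ← Category.assoc, pullback.lift_fst]
      rfl)
    have : φa.comp e = g := (huniv C1 _).unique
      (show _ ≫ xA = spm β g ≫ xA by
        rw [← spm_comp, Category.assoc, he, ← Category.assoc, hzz, Category.assoc, hg]) rfl
    exact ⟨e b, AlgHom.congr_fun this b⟩
  have h1 := hproj (fst X X) ρ (by rw [lift_fst, hρ])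
  have h2 := hproj (snd X X) inc (by rw [lift_snd, lift_snd])
  intro x
  show x ∈ φ.hom.range
  induction x using MonoidAlgebra.induction_linear with
  | zero => exact zero_mem _
  | add x y hx hy => exact add_mem hx hy
  | single k b =>
    have hb : b ∈ Ideal.span {c | ρ c = MonoidAlgebra.single k c} := hspan k ▸ trivial
    refine Submodule.span_induction (p := fun b _ => MonoidAlgebra.single k b ∈ φ.hom.range) ?_ ?_ ?_ ?_ hb
    · intro c hc
      exact (show ρ c = MonoidAlgebra.single k c from hc) ▸ h1 c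
    · rw [MonoidAlgebra.single_zero]; exact zero_mem _
    · intro c d _ _ hc hd
      rw [MonoidAlgebra.single_add]
      exact add_mem hc hd
    · intro c d _ hd
      have : MonoidAlgebra.single k (c • d) = inc c * MonoidAlgebra.single k d := by
        show _ = algebraMap A C1 c * _
        rw [MonoidAlgebra.coe_algebraMap]
        show _ = MonoidAlgebra.single 1 c * MonoidAlgebra.single k d
        rw [MonoidAlgebra.single_mul_single, _root_.one_mul]
        rfl
      rw [this]
      exact mul_mem (h2 c) hd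

end Groth.Agent.FreeDiag
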